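import Groth.Agent.Lib.Helper5.IdGlue.Cover

set_option autoImplicit false
universe u
open CategoryTheory AlgebraicGeometry TopologicalSpace Opposite

namespace Groth.Agent.Lib.Helper5.IdGlue

section single

variable {Y Q : Scheme.{u}} (g : Q ⟶ Y) [IsOpenImmersion g]

theorem range_ι_subset (W : Y.Opens) (h : W ≤ g.opensRange) :
    Set.range W.ι ⊆ Set.range g := by
  rw [Scheme.Opens.range_ι]
  exact h

/-- the lift of the inclusion of an open contained in the range. -/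
noncomputable def liftι (W : Y.Opens) (h : W ≤ g.opensRange) : W.toScheme ⟶ Q :=
  IsOpenImmersion.lift g W.ι (range_ι_subset g W h)

@[reassoc]
theorem liftι_fac (W : Y.Opens) (h : W ≤ g.opensRange) : liftι g W h ≫ g = W.ι :=
  IsOpenImmersion.lift_fac _ _ _

theorem top_le_liftι (W : Y.Opens) (h : W ≤ g.opensRange) :
    (⊤ : W.toScheme.Opens) ≤ (liftι g W h) ⁻¹ᵁ (g ⁻¹ᵁ W) := by
  intro x _
  change g (liftι g W h x) ∈ W
  rw [← Scheme.Hom.comp_apply, liftι_fac]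
  exact x.2

theorem ιappLE_bijective (W : Y.Opens) :
    Function.Bijective (W.ι.appLE W ⊤ (by rw [Scheme.Opens.ι_preimage_self])).hom := by
  rw [Scheme.Opens.ι_appLE]
  exact res_bijective_of_le _ (W.ι_image_top.ge)

theorem locIdeal_eq_comap_lift (I : Q.IdealSheafData) (W : Y.affineOpens)
    (h : W.1 ≤ g.opensRange) :
    haveI : IsAffine W.1.toScheme := W.2
    locIdeal g I W h = ((I.comap (liftι g W.1 h)).ideal ⟨⊤, isAffineOpen_top _⟩).comap
      (W.1.ι.appLE W.1 ⊤ (by rw [Scheme.Opens.ι_preimage_self])).hom := by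
  haveI : IsAffine W.1.toScheme := W.2
  have e := top_le_liftι g W.1 h
  rw [Groth.Agent.Helper4.IdealComap.ideal_comap_eq_map (liftι g W.1 h) I ⟨⊤, isAffineOpen_top _⟩
    ⟨g ⁻¹ᵁ W.1, W.2.preimage_of_isOpenImmersion g h⟩ e]
  have hτ : W.1.ι.appLE W.1 ⊤ (by rw [Scheme.Opens.ι_preimage_self]) =
      g.app W.1 ≫ (liftι g W.1 h).appLE (g ⁻¹ᵁ W.1) ⊤ e := by
    rw [← Scheme.Hom.comp_appLE]
    exact appLE_congr_hom (liftι_fac g W.1 h).symm _ _ _
  have hbij : Function.Bijective ((liftι g W.1 h).appLE (g ⁻¹ᵁ W.1) ⊤ e).hom := by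
    have h1 := ιappLE_bijective W.1
    rw [hτ, CommRingCat.hom_comp, RingHom.coe_comp] at h1
    exact (Function.Bijective.of_comp_iff _ (app_bijective g W.1 h)).1 h1
  rw [hτ, CommRingCat.hom_comp, ← Ideal.comap_comap, Ideal.comap_map_of_bijective _ hbij]
  rfl

end single

theorem locIdeal_eq_of_comap {Y Q Q' : Scheme.{u}} (g : Q ⟶ Y) (g' : Q' ⟶ Y)
    [IsOpenImmersion g] [IsOpenImmersion g'] (I : Q.IdealSheafData) (I' : Q'.IdealSheafData)
    (hc : ∀ (V : Scheme.{u}) (a₁ : V ⟶ Q) (a₂ : V ⟶ Q'), a₁ ≫ g = a₂ ≫ g' →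
      I.comap a₁ = I'.comap a₂)
    (W : Y.affineOpens) (h : W.1 ≤ g.opensRange) (h' : W.1 ≤ g'.opensRange) :
    locIdeal g I W h = locIdeal g' I' W h' := by
  rw [locIdeal_eq_comap_lift, locIdeal_eq_comap_lift]
  have := hc _ (liftι g W.1 h) (liftι g' W.1 h') ((liftι_fac g W.1 h).trans (liftι_fac g' W.1 h').symm)
  rw [this]

/-- **gluing of ideal sheaves along an open cover.** -/
theorem exists_glue {Y : Scheme.{u}} {ι : Type*} {Q : ι → Scheme.{u}} (g : ∀ j, Q j ⟶ Y)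
    [∀ j, IsOpenImmersion (g j)] (I : ∀ j, (Q j).IdealSheafData)
    (hcov : ∀ y : Y, ∃ j, y ∈ Set.range (g j))
    (hc : ∀ (i j : ι) (V : Scheme.{u}) (a₁ : V ⟶ Q i) (a₂ : V ⟶ Q j), a₁ ≫ g i = a₂ ≫ g j →
      (I i).comap a₁ = (I j).comap a₂) :
    ∃ J : Y.IdealSheafData, ∀ j, J.comap (g j) = I j :=
  exists_glue_of_locIdeal hcov fun i j W hi hj =>
    locIdeal_eq_of_comap (g i) (g j) (I i) (I j) (hc i j) W hi hj

end Groth.Agent.Lib.Helper5.IdGlue
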