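import Mathlib

set_option autoImplicit false
universe u
open CategoryTheory AlgebraicGeometry TopologicalSpace Opposite

namespace Groth.Agent.Lib.Helper5.IdGlue

variable {Y : Scheme.{u}}

/-- restriction of sections between opens. -/
noncomputable abbrev res {U V : Y.Opens} (h : V ≤ U) : Γ(Y, U) →+* Γ(Y, V) :=
  (Y.presheaf.map (homOfLE h).op).hom

theorem res_res {U V W : Y.Opens} (h : V ≤ U) (h' : W ≤ V) (s : Γ(Y, U)) :
    res h' (res h s) = res (h'.trans h) s := by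
  change ((Y.presheaf.map (homOfLE h).op) ≫ (Y.presheaf.map (homOfLE h').op)).hom s = _
  rw [← Functor.map_comp]
  rfl

theorem res_comp {U V W : Y.Opens} (h : V ≤ U) (h' : W ≤ V) :
    (res h').comp (res h) = res (h'.trans h) :=
  RingHom.ext fun s => res_res h h' s

theorem germ_res {U V : Y.Opens} (h : V ≤ U) (y : Y) (hy : y ∈ V) (s : Γ(Y, U)) :
    (Y.presheaf.germ V y hy).hom (res h s) = (Y.presheaf.germ U y (h hy)).hom s :=
  TopCat.Presheaf.germ_res_apply Y.presheaf (homOfLE h) y hy s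

theorem germ_comp_res {U V : Y.Opens} (h : V ≤ U) (y : Y) (hy : y ∈ V) :
    (Y.presheaf.germ V y hy).hom.comp (res h) = (Y.presheaf.germ U y (h hy)).hom :=
  RingHom.ext fun s => germ_res h y hy s

/-- basis data for an ideal sheaf: a down-closed covering family of affine opens with compatible
ideals. -/
structure IsBasisData (𝔅 : Set Y.affineOpens) (ℐ : ∀ W : Y.affineOpens, Ideal Γ(Y, W.1)) :
    Prop where
  cover : ∀ y : Y, ∃ W ∈ 𝔅, y ∈ W.1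
  down : ∀ W ∈ 𝔅, ∀ W' : Y.affineOpens, W'.1 ≤ W.1 → W' ∈ 𝔅
  compat : ∀ W ∈ 𝔅, ∀ (W' : Y.affineOpens) (h : W'.1 ≤ W.1), (ℐ W).map (res h) = ℐ W'

variable (𝔅 : Set Y.affineOpens) (ℐ : ∀ W : Y.affineOpens, Ideal Γ(Y, W.1))

/-- the stalk of the glued ideal sheaf. -/
noncomputable def stalkIdeal (y : Y) : Ideal (Y.presheaf.stalk y) :=
  ⨆ (W : Y.affineOpens) (_ : W ∈ 𝔅) (h : y ∈ W.1), (ℐ W).map (Y.presheaf.germ W.1 y h).hom

theorem exists_affine_le_inf (W W' : Y.Opens) (y : Y) (hy : y ∈ W) (hy' : y ∈ W') :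
    ∃ W'' : Y.affineOpens, y ∈ W''.1 ∧ W''.1 ≤ W ∧ W''.1 ≤ W' := by
  obtain ⟨_, ⟨V, hV, rfl⟩, hyV, hVW⟩ :=
    Y.isBasis_affineOpens.exists_subset_of_mem_open (show y ∈ ((W ⊓ W' : Y.Opens) : Set Y) from
      ⟨hy, hy'⟩) (W ⊓ W').isOpen
  exact ⟨⟨V, hV⟩, hyV, fun z hz => (hVW hz).1, fun z hz => (hVW hz).2⟩

variable {𝔅 ℐ}

theorem map_germ_of_le (hB : IsBasisData 𝔅 ℐ) {W W' : Y.affineOpens} (hW : W ∈ 𝔅)
    (h : W'.1 ≤ W.1) (y : Y) (hy : y ∈ W'.1) :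
    (ℐ W').map (Y.presheaf.germ W'.1 y hy).hom = (ℐ W).map (Y.presheaf.germ W.1 y (h hy)).hom := by
  rw [← hB.compat W hW W' h, Ideal.map_map, germ_comp_res]

theorem stalkIdeal_eq (hB : IsBasisData 𝔅 ℐ) {W : Y.affineOpens} (hW : W ∈ 𝔅) (y : Y)
    (hy : y ∈ W.1) : stalkIdeal 𝔅 ℐ y = (ℐ W).map (Y.presheaf.germ W.1 y hy).hom := by
  apply le_antisymm
  · refine iSup_le fun W' => iSup_le fun hW' => iSup_le fun hy' => ?_
    obtain ⟨W'', hy'', h1, h2⟩ := exists_affine_le_inf W.1 W'.1 y hy hy'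
    rw [← map_germ_of_le hB hW' h2 y hy'', map_germ_of_le hB hW h1 y hy'']
  · exact le_iSup_of_le W (le_iSup_of_le hW (le_iSup_of_le hy le_rfl))

variable (𝔅 ℐ) in
/-- the glued ideal on an affine open. -/
noncomputable def gl (U : Y.affineOpens) : Ideal Γ(Y, U.1) :=
  ⨅ (y : Y) (h : y ∈ U.1), (stalkIdeal 𝔅 ℐ y).comap (Y.presheaf.germ U.1 y h).hom

theorem mem_gl {U : Y.affineOpens} {s : Γ(Y, U.1)} :
    s ∈ gl 𝔅 ℐ U ↔ ∀ (y : Y) (h : y ∈ U.1), (Y.presheaf.germ U.1 y h).hom s ∈ stalkIdeal 𝔅 ℐ y := by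
  simp only [gl, Ideal.mem_iInf, Ideal.mem_comap]

theorem gl_eq (hB : IsBasisData 𝔅 ℐ) {W : Y.affineOpens} (hW : W ∈ 𝔅) : gl 𝔅 ℐ W = ℐ W := by
  ext s
  rw [mem_gl, W.2.mem_ideal_iff]
  refine forall_congr' fun y => forall_congr' fun hy => ?_
  rw [stalkIdeal_eq hB hW y hy]

theorem res_mem_gl {U U' : Y.affineOpens} (h : U'.1 ≤ U.1) {s : Γ(Y, U.1)} (hs : s ∈ gl 𝔅 ℐ U) :
    res h s ∈ gl 𝔅 ℐ U' := by
  rw [mem_gl] at hs ⊢
  intro y hy
  rw [germ_res]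
  exact hs y (h hy)

/-- the key local statement. -/
theorem exists_pow_mul_mem_of_mem (hB : IsBasisData 𝔅 ℐ) {U W : Y.affineOpens} (hW : W ∈ 𝔅)
    (hWU : W.1 ≤ U.1) (g a : Γ(Y, U.1))
    (ha : res (Y.basicOpen_le g) a ∈ gl 𝔅 ℐ (Y.affineBasicOpen g)) :
    ∃ n : ℕ, (res hWU g) ^ n * res hWU a ∈ ℐ W := by
  set g' := res hWU g with hg'
  set a' := res hWU a with ha'
  have hle : Y.basicOpen g' ≤ Y.basicOpen g := by
    rw [hg']
    change Y.basicOpen (Y.presheaf.map (homOfLE hWU).op g) ≤ _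
    rw [Y.basicOpen_res]
    exact inf_le_right
  have hD : Y.affineBasicOpen g' ∈ 𝔅 := hB.down W hW _ (Y.basicOpen_le g')
  have h1 : res (Y.basicOpen_le g') a' ∈ ℐ (Y.affineBasicOpen g') := by
    rw [← gl_eq hB hD]
    have := res_mem_gl (U := Y.affineBasicOpen g) (U' := Y.affineBasicOpen g') hle ha
    have e1 : res hle (res (Y.basicOpen_le g) a) = res (Y.basicOpen_le g') a' := by
      rw [ha']
      exact (res_res _ _ a).trans (res_res _ _ a).symm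
    exact e1 ▸ this
  rw [← hB.compat W hW (Y.affineBasicOpen g') (Y.basicOpen_le g')] at h1
  haveI := W.2.isLocalization_basicOpen g'
  have h2 : algebraMap Γ(Y, W.1) Γ(Y, Y.basicOpen g') a' ∈
      (ℐ W).map (algebraMap Γ(Y, W.1) Γ(Y, Y.basicOpen g')) := h1
  rw [IsLocalization.algebraMap_mem_map_algebraMap_iff (Submonoid.powers g')] at h2
  obtain ⟨m, ⟨n, rfl⟩, hm⟩ := h2
  exact ⟨n, hm⟩

theorem exists_pow_mul_mem_gl (hB : IsBasisData 𝔅 ℐ) (U : Y.affineOpens) (g a : Γ(Y, U.1))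
    (ha : res (Y.basicOpen_le g) a ∈ gl 𝔅 ℐ (Y.affineBasicOpen g)) :
    ∃ N : ℕ, g ^ N * a ∈ gl 𝔅 ℐ U := by
  -- a cover of `U` by basic opens lying in `𝔅`
  have hex : ∀ z : U.1, ∃ h : Γ(Y, U.1), z.1 ∈ Y.basicOpen h ∧ Y.affineBasicOpen h ∈ 𝔅 := by
    intro z
    obtain ⟨W, hW, hzW⟩ := hB.cover z.1
    obtain ⟨h, hle, hz⟩ := U.2.exists_basicOpen_le (V := W.1) ⟨z.1, hzW⟩ z.2
    exact ⟨h, hz, hB.down W hW _ hle⟩
  choose h hz hh using hex
  have hcov : U.1 ≤ ⨆ f : Set.range h, Y.basicOpen f.1 := by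
    intro z hzU
    exact Opens.mem_iSup.2 ⟨⟨h ⟨z, hzU⟩, Set.mem_range_self _⟩, hz ⟨z, hzU⟩⟩
  rw [U.2.self_le_iSup_basicOpen_iff] at hcov
  obtain ⟨t, ht, hspan⟩ := (Ideal.span_eq_top_iff_finite _).1 hcov
  -- the exponents
  have hexp : ∀ f : Γ(Y, U.1), f ∈ Set.range h → ∃ n : ℕ,
      (res (Y.basicOpen_le f) g) ^ n * res (Y.basicOpen_le f) a ∈ ℐ (Y.affineBasicOpen f) := by
    rintro _ ⟨z, rfl⟩
    exact exists_pow_mul_mem_of_mem hB (hh z) (Y.basicOpen_le _) g a ha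
  classical
  let n : Γ(Y, U.1) → ℕ := fun f => if hf : f ∈ Set.range h then (hexp f hf).choose else 0
  have hn : ∀ f (hf : f ∈ Set.range h),
      (res (Y.basicOpen_le f) g) ^ n f * res (Y.basicOpen_le f) a ∈ ℐ (Y.affineBasicOpen f) := by
    intro f hf
    simp only [n, dif_pos hf]
    exact (hexp f hf).choose_spec
  refine ⟨t.sup n, ?_⟩
  rw [mem_gl]
  intro y hy
  -- `y` lies in some `D(f)`, `f ∈ t`
  have hy' : y ∈ ⨆ f : (t : Set Γ(Y, U.1)), Y.basicOpen f.1 := by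
    have := (U.2.self_le_iSup_basicOpen_iff (s := (t : Set Γ(Y, U.1)))).2 hspan
    exact this hy
  obtain ⟨⟨f, hft⟩, hyf⟩ := Opens.mem_iSup.1 hy'
  have hfr : f ∈ Set.range h := ht hft
  obtain ⟨z, rfl⟩ := hfr
  rw [stalkIdeal_eq hB (hh z) y hyf, ← germ_res (Y.basicOpen_le (h z)) y hyf]
  apply Ideal.mem_map_of_mem
  rw [map_mul, map_pow]
  have hle : n (h z) ≤ t.sup n := Finset.le_sup hft
  obtain ⟨k, hk⟩ := Nat.exists_eq_add_of_le hle
  rw [hk, pow_add, mul_comm (_ ^ n (h z)) _, mul_assoc]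
  exact Ideal.mul_mem_left _ _ (hn (h z) ⟨z, rfl⟩)

theorem gl_map_basicOpen (hB : IsBasisData 𝔅 ℐ) (U : Y.affineOpens) (r : Γ(Y, U.1)) :
    (gl 𝔅 ℐ U).map (res (Y.basicOpen_le r)) = gl 𝔅 ℐ (Y.affineBasicOpen r) := by
  apply le_antisymm
  · rw [Ideal.map_le_iff_le_comap]
    intro s hs
    exact res_mem_gl (U' := Y.affineBasicOpen r) (Y.basicOpen_le r) hs
  · intro t ht
    haveI := U.2.isLocalization_basicOpen r
    obtain ⟨⟨a, ⟨_, n, rfl⟩⟩, hat⟩ := IsLocalization.surj (Submonoid.powers r) t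
    have hat' : t * (res (Y.basicOpen_le r) r) ^ n = res (Y.basicOpen_le r) a := by
      have := hat
      simp only [map_pow] at this
      exact this
    have ha : res (Y.basicOpen_le r) a ∈ gl 𝔅 ℐ (Y.affineBasicOpen r) := by
      rw [← hat']
      exact Ideal.mul_mem_right _ _ ht
    obtain ⟨N, hN⟩ := exists_pow_mul_mem_gl hB U r a ha
    have h1 : res (Y.basicOpen_le r) (r ^ N * a) ∈ (gl 𝔅 ℐ U).map (res (Y.basicOpen_le r)) :=
      Ideal.mem_map_of_mem _ hN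
    rw [map_mul, map_pow, ← hat', mul_comm t, ← mul_assoc, ← pow_add] at h1
    have hu : IsUnit (res (Y.basicOpen_le r) r) :=
      IsLocalization.Away.algebraMap_isUnit (S := Γ(Y, Y.basicOpen r)) r
    exact (Ideal.unit_mul_mem_iff_mem _ (hu.pow _)).1 h1

/-- **gluing of ideal sheaves from a basis of affine opens.** -/
theorem exists_idealSheafData (hB : IsBasisData 𝔅 ℐ) :
    ∃ J : Y.IdealSheafData, ∀ W ∈ 𝔅, J.ideal W = ℐ W :=
  ⟨{ ideal := gl 𝔅 ℐ, map_ideal_basicOpen := fun U r => gl_map_basicOpen hB U r },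
    fun _ hW => gl_eq hB hW⟩

end Groth.Agent.Lib.Helper5.IdGlue
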