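import Groth.Agent.Lib.Helper5.IdGlue.Basis
import Groth.Agent.Lib.Helper4.IdealComap

set_option autoImplicit false
universe u
open CategoryTheory AlgebraicGeometry TopologicalSpace Opposite

namespace Groth.Agent.Lib.Helper5.IdGlue

/-- a square of ring maps with bijective vertical maps. -/
theorem map_comap_square {R R' S S' : Type*} [CommRing R] [CommRing R'] [CommRing S]
    [CommRing S'] (a : R →+* S) (a' : R' →+* S') (r : R →+* R') (r' : S →+* S')
    (ha : Function.Bijective a) (ha' : Function.Bijective a') (hsq : a'.comp r = r'.comp a)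
    (K : Ideal S) : (K.comap a).map r = (K.map r').comap a' := by
  have h1 : ((K.comap a).map r).map a' = K.map r' := by
    rw [Ideal.map_map, hsq, ← Ideal.map_map, Ideal.map_comap_of_surjective a ha.surjective]
  rw [← h1, Ideal.comap_map_of_bijective a' ha']

theorem appLE_congr_hom {X Y : Scheme.{u}} {f f' : X ⟶ Y} (h : f = f') (U : Y.Opens)
    (V : X.Opens) (e : V ≤ f ⁻¹ᵁ U) : f.appLE U V e = f'.appLE U V (h ▸ e) := by
  subst h
  rfl

theorem res_bijective_of_le {Y : Scheme.{u}} {U V : Y.Opens} (h : V ≤ U) (h' : U ≤ V) :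
    Function.Bijective (res h) := by
  refine Function.bijective_iff_has_inverse.2 ⟨res h', fun s => ?_, fun s => ?_⟩
  · rw [res_res]
    change (Y.presheaf.map (𝟙 _)).hom s = s
    rw [Y.presheaf.map_id]
    rfl
  · rw [res_res]
    change (Y.presheaf.map (𝟙 _)).hom s = s
    rw [Y.presheaf.map_id]
    rfl

section single

variable {Y Q : Scheme.{u}} (g : Q ⟶ Y) [IsOpenImmersion g]

/-- the ideal on an affine open of `Y` inside the range of the open immersion `g` induced from
an ideal sheaf on the source. -/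
noncomputable def locIdeal (I : Q.IdealSheafData) (W : Y.affineOpens)
    (h : W.1 ≤ g.opensRange) : Ideal Γ(Y, W.1) :=
  (I.ideal ⟨g ⁻¹ᵁ W.1, W.2.preimage_of_isOpenImmersion g h⟩).comap (g.app W.1).hom

theorem app_bijective (W : Y.Opens) (h : W ≤ g.opensRange) :
    Function.Bijective (g.app W).hom := by
  haveI := g.isIso_app W h
  exact ConcreteCategory.bijective_of_isIso (g.app W)

theorem locIdeal_comap (J : Y.IdealSheafData) (W : Y.affineOpens) (h : W.1 ≤ g.opensRange) :
    locIdeal g (J.comap g) W h = J.ideal W := by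
  unfold locIdeal
  rw [Groth.Agent.Helper4.IdealComap.ideal_comap_eq_map g J
    ⟨g ⁻¹ᵁ W.1, W.2.preimage_of_isOpenImmersion g h⟩ W le_rfl, Scheme.Hom.appLE_eq_app,
    Ideal.comap_map_of_bijective _ (app_bijective g W.1 h)]

theorem le_preimage_image (U : Q.Opens) : U ≤ g ⁻¹ᵁ (g ''ᵁ U) := by
  rw [g.preimage_image_eq]

theorem ideal_eq_locIdeal_map (I : Q.IdealSheafData) (U : Q.affineOpens) :
    I.ideal U = (locIdeal g I ⟨g ''ᵁ U.1, U.2.image_of_isOpenImmersion g⟩
      (g.image_le_opensRange U.1)).map (g.appLE (g ''ᵁ U.1) U.1 (le_preimage_image g U.1)).hom := by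
  unfold locIdeal
  have h1 := I.map_ideal' (U := U)
    (V := ⟨g ⁻¹ᵁ (g ''ᵁ U.1), (U.2.image_of_isOpenImmersion g).preimage_of_isOpenImmersion g
      (g.image_le_opensRange U.1)⟩) (homOfLE (le_preimage_image g U.1)).op
  rw [← h1]
  have h2 : g.appLE (g ''ᵁ U.1) U.1 (le_preimage_image g U.1) =
      g.app (g ''ᵁ U.1) ≫ Q.presheaf.map (homOfLE (le_preimage_image g U.1)).op := rfl
  rw [h2, CommRingCat.hom_comp, ← Ideal.map_map,
    Ideal.map_comap_of_surjective _ (app_bijective g _ (g.image_le_opensRange U.1)).surjective]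

theorem locIdeal_map_res (I : Q.IdealSheafData) (W W' : Y.affineOpens) (h : W.1 ≤ g.opensRange)
    (hW : W'.1 ≤ W.1) :
    (locIdeal g I W h).map (res hW) = locIdeal g I W' (hW.trans h) := by
  unfold locIdeal
  have hle : g ⁻¹ᵁ W'.1 ≤ g ⁻¹ᵁ W.1 := fun x hx => hW hx
  rw [map_comap_square (g.app W.1).hom (g.app W'.1).hom (res hW) (res (Y := Q) hle)
    (app_bijective g _ h) (app_bijective g _ (hW.trans h)) ?_]
  · congr 1
    exact I.map_ideal' (U := ⟨g ⁻¹ᵁ W'.1, _⟩) (V := ⟨g ⁻¹ᵁ W.1, _⟩) (homOfLE hle).op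
  · have := g.naturality (homOfLE hW).op
    apply RingHom.ext
    intro s
    exact congrArg (fun φ => φ.hom s) this

end single

section family

variable {Y : Scheme.{u}} {ι : Type*} {Q : ι → Scheme.{u}} (g : ∀ j, Q j ⟶ Y)
  [∀ j, IsOpenImmersion (g j)]

/-- the affine opens contained in the range of one of the open immersions. -/
def small : Set Y.affineOpens := {W | ∃ j, W.1 ≤ (g j).opensRange}

theorem exists_small (hcov : ∀ y : Y, ∃ j, y ∈ Set.range (g j)) (y : Y) :
    ∃ W ∈ small g, y ∈ W.1 := by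
  obtain ⟨j, hj⟩ := hcov y
  obtain ⟨_, ⟨V, hV, rfl⟩, hyV, hVW⟩ :=
    Y.isBasis_affineOpens.exists_subset_of_mem_open (show y ∈ ((g j).opensRange : Set Y) from hj)
      (g j).opensRange.isOpen
  exact ⟨⟨V, hV⟩, ⟨j, hVW⟩, hyV⟩

theorem iSup_small (hcov : ∀ y : Y, ∃ j, y ∈ Set.range (g j)) :
    ⨆ W : small g, (W.1 : Y.affineOpens).1 = ⊤ := by
  rw [eq_top_iff]
  intro y _
  obtain ⟨W, hW, hy⟩ := exists_small g hcov y
  exact Opens.mem_iSup.2 ⟨⟨W, hW⟩, hy⟩

/-- ideal sheaves are determined by their restrictions to an open cover. -/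
theorem ext_of_comap (hcov : ∀ y : Y, ∃ j, y ∈ Set.range (g j)) (J₁ J₂ : Y.IdealSheafData)
    (h : ∀ j, J₁.comap (g j) = J₂.comap (g j)) : J₁ = J₂ := by
  refine Scheme.IdealSheafData.ext_of_iSup_eq_top (fun W : small g => W.1) (iSup_small g hcov) ?_
  rintro ⟨W, j, hj⟩
  rw [← locIdeal_comap (g j) J₁ W hj, ← locIdeal_comap (g j) J₂ W hj, h j]

variable (I : ∀ j, (Q j).IdealSheafData)

/-- the candidate ideals. -/
noncomputable def glIdeal (W : Y.affineOpens) : Ideal Γ(Y, W.1) :=
  ⨅ (j : ι) (h : W.1 ≤ (g j).opensRange), locIdeal (g j) (I j) W h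

variable {g I}

theorem glIdeal_eq
    (hc : ∀ (i j : ι) (W : Y.affineOpens) (hi : W.1 ≤ (g i).opensRange)
      (hj : W.1 ≤ (g j).opensRange), locIdeal (g i) (I i) W hi = locIdeal (g j) (I j) W hj)
    (j : ι) (W : Y.affineOpens) (h : W.1 ≤ (g j).opensRange) :
    glIdeal g I W = locIdeal (g j) (I j) W h := by
  apply le_antisymm
  · exact iInf_le_of_le j (iInf_le _ h)
  · exact le_iInf fun i => le_iInf fun hi => (hc j i W h hi).le

theorem isBasisData (hcov : ∀ y : Y, ∃ j, y ∈ Set.range (g j))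
    (hc : ∀ (i j : ι) (W : Y.affineOpens) (hi : W.1 ≤ (g i).opensRange)
      (hj : W.1 ≤ (g j).opensRange), locIdeal (g i) (I i) W hi = locIdeal (g j) (I j) W hj) :
    IsBasisData (small g) (glIdeal g I) where
  cover := exists_small g hcov
  down := fun W ⟨j, hj⟩ W' h => ⟨j, h.trans hj⟩
  compat := by
    rintro W ⟨j, hj⟩ W' h
    rw [glIdeal_eq hc j W hj, glIdeal_eq hc j W' (h.trans hj), locIdeal_map_res]

/-- gluing ideal sheaves along an open cover, affine-local form of the compatibility. -/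
theorem exists_glue_of_locIdeal (hcov : ∀ y : Y, ∃ j, y ∈ Set.range (g j))
    (hc : ∀ (i j : ι) (W : Y.affineOpens) (hi : W.1 ≤ (g i).opensRange)
      (hj : W.1 ≤ (g j).opensRange), locIdeal (g i) (I i) W hi = locIdeal (g j) (I j) W hj) :
    ∃ J : Y.IdealSheafData, ∀ j, J.comap (g j) = I j := by
  obtain ⟨J, hJ⟩ := exists_idealSheafData (isBasisData hcov hc)
  refine ⟨J, fun j => ?_⟩
  refine Scheme.IdealSheafData.ext (funext fun U => ?_)
  rw [Groth.Agent.Helper4.IdealComap.ideal_comap_eq_map (g j) J U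
    ⟨(g j) ''ᵁ U.1, U.2.image_of_isOpenImmersion (g j)⟩ (le_preimage_image (g j) U.1),
    hJ _ ⟨j, (g j).image_le_opensRange U.1⟩, glIdeal_eq hc j _ ((g j).image_le_opensRange U.1),
    ← ideal_eq_locIdeal_map]

end family

end Groth.Agent.Lib.Helper5.IdGlue
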